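import Mathlib

/-! Normal subgroups of direct powers of simple groups. -/

set_option autoImplicit false

namespace Cfsg.Agent.H3.PowSimple

variable {S : Type*} [Group S]

theorem center_eq_bot [IsSimpleGroup S] (hS : ¬ IsMulCommutative S) : Subgroup.center S = ⊥ := by
  refine (Subgroup.Normal.eq_bot_or_eq_top inferInstance).resolve_right fun h => hS ?_
  refine ⟨⟨fun a b => ?_⟩⟩
  have : b ∈ Subgroup.center S := by rw [h]; trivial
  exact Subgroup.mem_center_iff.mp this a

theorem exists_not_commute [IsSimpleGroup S] (hS : ¬ IsMulCommutative S) {x : S} (hx : x ≠ 1) :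
    ∃ s : S, s * x ≠ x * s := by
  by_contra h
  push Not at h
  have : x ∈ Subgroup.center S := Subgroup.mem_center_iff.mpr h
  rw [center_eq_bot hS, Subgroup.mem_bot] at this
  exact hx this

/-- If a normal subgroup of `ι → S` has an element with non-trivial `i`-th coordinate, it
contains the whole `i`-th factor. -/
theorem mulSingle_mem {ι : Type*} [DecidableEq ι] [IsSimpleGroup S] (hS : ¬ IsMulCommutative S)
    (N : Subgroup (ι → S)) [hN : N.Normal] {x : ι → S} (hx : x ∈ N) {i : ι} (hi : x i ≠ 1)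
    (s : S) : Pi.mulSingle i s ∈ N := by
  let L : Subgroup S := N.comap (MonoidHom.mulSingle (fun _ : ι => S) i)
  have hL : L.Normal := hN.comap _
  obtain ⟨t, ht⟩ := exists_not_commute hS hi
  have hmem : t * x i * t⁻¹ * (x i)⁻¹ ∈ L := by
    have h1 := N.mul_mem (hN.conj_mem x hx (Pi.mulSingle i t)) (N.inv_mem hx)
    change Pi.mulSingle i _ ∈ N
    convert h1 using 1
    ext j
    by_cases hj : j = i
    · subst hj; simp
    · simp [hj]
  rcases hL.eq_bot_or_eq_top with h | h
  · rw [h, Subgroup.mem_bot, mul_inv_eq_one, mul_inv_eq_iff_eq_mul] at hmem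
    exact absurd hmem ht
  · have : s ∈ L := by rw [h]; trivial
    exact this

theorem mem_of_mulSingle_mem {ι : Type*} [Fintype ι] [DecidableEq ι] (N : Subgroup (ι → S))
    (x : ι → S) (h : ∀ i, Pi.mulSingle i (x i) ∈ N) : x ∈ N := by
  have := Subgroup.pi_mem_of_mulSingle_mem (f := fun _ : ι => S) x h
  exact this

theorem normal_subproduct {ι : Type*} [Fintype ι] [DecidableEq ι] [IsSimpleGroup S]
    (hS : ¬ IsMulCommutative S) (N : Subgroup (ι → S)) [N.Normal] :
    ∃ T : Finset ι, ∀ x : ι → S, x ∈ N ↔ ∀ i, i ∉ T → x i = 1 := by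
  classical
  refine ⟨Finset.univ.filter fun i => ∃ x ∈ N, x i ≠ 1, fun x => ⟨fun hx i hi => ?_, fun h => ?_⟩⟩
  · by_contra hne
    exact hi (Finset.mem_filter.mpr ⟨Finset.mem_univ _, x, hx, hne⟩)
  · apply mem_of_mulSingle_mem
    intro i
    by_cases hi : i ∈ Finset.univ.filter fun i => ∃ x ∈ N, x i ≠ 1
    · obtain ⟨y, hy, hyi⟩ := (Finset.mem_filter.mp hi).2
      exact mulSingle_mem hS N hy hyi _
    · rw [h i hi]; simp

end Cfsg.Agent.H3.PowSimple
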