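import Mathlib
import Cfsg.Agent.H3.PowSimple

/-! Characteristically simple finite groups are direct powers of simple groups. -/

set_option autoImplicit false

namespace Cfsg.Agent.H3.CharSimple

variable {G : Type*} [Group G]

/-- Splitting off the first coordinate of a direct power. -/
def consMulEquiv (T : Type*) [Group T] (m : ℕ) : (Fin m → T) × T ≃* (Fin (m + 1) → T) where
  toFun x := Fin.cons x.2 x.1
  invFun f := (fun i => f i.succ, f 0)
  left_inv x := by simp
  right_inv f := by ext i; induction i using Fin.cases <;> simp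
  map_mul' x y := by ext i; induction i using Fin.cases <;> simp

/-- The join of two normal subgroups meeting trivially is their direct product. -/
theorem nonempty_sup_mulEquiv (M N : Subgroup G) [hM : M.Normal] [hN : N.Normal]
    (h : M ⊓ N = ⊥) : Nonempty (↥(M ⊔ N) ≃* M × N) := by
  have hc : ∀ (m : M) (n : N), Commute (M.subtype m) (N.subtype n) := fun m n =>
    Subgroup.commute_of_normal_of_disjoint M N hM hN (disjoint_iff.mpr h) m n m.2 n.2
  have hinj : Function.Injective (M.subtype.noncommCoprod N.subtype hc) := by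
    rw [MonoidHom.noncommCoprod_injective]
    refine ⟨M.subtype_injective, N.subtype_injective, ?_⟩
    rw [Subgroup.range_subtype, Subgroup.range_subtype]
    exact disjoint_iff.mpr h
  have hr : (M.subtype.noncommCoprod N.subtype hc).range = M ⊔ N := by
    rw [MonoidHom.noncommCoprod_range, Subgroup.range_subtype, Subgroup.range_subtype]
  exact ⟨((MonoidHom.ofInjective hinj).trans (MulEquiv.subgroupCongr hr)).symm⟩

theorem exists_power_subgroup [Finite G] [Nontrivial G]
    (h : ∀ H : Subgroup G, H.Characteristic → H = ⊥ ∨ H = ⊤) :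
    ∃ T : Subgroup G, IsSimpleGroup T ∧ ∃ m : ℕ, 0 < m ∧ Nonempty (G ≃* (Fin m → T)) := by
  classical
  obtain ⟨T, ⟨hT, hTne⟩, hTmin⟩ := exists_minimalFor_of_wellFoundedLT
    (fun T : Subgroup G => T.Normal ∧ T ≠ ⊥) (fun T => Nat.card T) ⟨⊤, inferInstance, top_ne_bot⟩
  have hTmin' : ∀ S : Subgroup G, S.Normal → S ≠ ⊥ → Nat.card T ≤ Nat.card S := fun S h1 h2 =>
    (le_total _ _).elim id (fun h => hTmin ⟨h1, h2⟩ h)
  obtain ⟨M, ⟨hM, m, hm, ⟨e⟩⟩, hMmax⟩ := exists_maximal_of_wellFoundedGT
    (fun M : Subgroup G => M.Normal ∧ ∃ m : ℕ, 0 < m ∧ Nonempty (M ≃* (Fin m → T)))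
    ⟨T, hT, 1, one_pos, ⟨(MulEquiv.funUnique (Fin 1) T).symm⟩⟩
  have hle : ∀ φ : G ≃* G, T.map φ.toMonoidHom ≤ M := by
    intro φ
    have hn : (T.map φ.toMonoidHom).Normal := hT.map _ φ.surjective
    by_cases hb : M ⊓ T.map φ.toMonoidHom = ⊥
    · obtain ⟨e'⟩ := nonempty_sup_mulEquiv M _ hb
      exact le_sup_right.trans (hMmax ⟨inferInstance, m + 1, Nat.succ_pos _,
        ⟨e'.trans ((e.prodCongr (φ.subgroupMap T).symm).trans (consMulEquiv T m))⟩⟩ le_sup_left)
    · have h1 := hTmin' _ inferInstance hb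
      rw [← Subgroup.card_map_of_injective (f := φ.toMonoidHom) φ.injective] at h1
      rw [← Subgroup.eq_of_le_of_card_ge inf_le_right h1]
      exact inf_le_left
  have hchar : (⨆ φ : G ≃* G, T.map φ.toMonoidHom).Characteristic := by
    rw [Subgroup.characteristic_iff_map_le]
    intro ψ
    rw [Subgroup.map_iSup]
    refine iSup_le fun φ => ?_
    rw [Subgroup.map_map]
    exact le_iSup (fun φ : G ≃* G => T.map φ.toMonoidHom) (φ.trans ψ)
  have hMtop : M = ⊤ := by
    rcases h _ hchar with h1 | h1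
    · exfalso
      apply hTne
      rw [eq_bot_iff, ← h1]
      refine le_trans ?_ (le_iSup (fun φ : G ≃* G => T.map φ.toMonoidHom) (MulEquiv.refl G))
      exact (Subgroup.map_id T).ge
    · rw [eq_top_iff, ← h1]
      exact iSup_le hle
  subst hMtop
  let e₁ : G ≃* (Fin m → T) := Subgroup.topEquiv.symm.trans e
  refine ⟨T, ?_, m, hm, ⟨e₁⟩⟩
  have : Nontrivial T := (Subgroup.nontrivial_iff_ne_bot T).mpr hTne
  refine ⟨fun S hS => ?_⟩
  by_cases hSb : S = ⊥
  · exact Or.inl hSb
  right
  let i : Fin m := ⟨0, hm⟩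
  let ι : T →* (Fin m → T) := MonoidHom.mulSingle (fun _ : Fin m => T) i
  have hι : Function.Injective ι := Pi.mulSingle_injective (M := fun _ : Fin m => T) i
  have hn : (S.map ι).Normal := ⟨by
    rintro _ ⟨s, hs, rfl⟩ g
    refine ⟨g i * s * (g i)⁻¹, hS.conj_mem s hs _, ?_⟩
    ext j : 1
    by_cases hj : j = i
    · subst hj; simp [ι]
    · simp [ι, hj]⟩
  have h1 := hTmin' ((S.map ι).map e₁.symm.toMonoidHom) (hn.map _ e₁.symm.surjective) (by
    rw [Ne, Subgroup.map_eq_bot_iff_of_injective _ e₁.symm.injective,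
      Subgroup.map_eq_bot_iff_of_injective _ hι]
    exact hSb)
  rw [Subgroup.card_map_of_injective (f := e₁.symm.toMonoidHom) e₁.symm.injective,
    Subgroup.card_map_of_injective hι] at h1
  exact Subgroup.eq_top_of_le_card _ h1

theorem exists_power [Finite G] [Nontrivial G]
    (h : ∀ H : Subgroup G, H.Characteristic → H = ⊥ ∨ H = ⊤) :
    ∃ (S : Type) (_ : Group S) (_ : IsSimpleGroup S) (n : ℕ), 1 ≤ n ∧
      Nonempty (G ≃* (Fin n → S)) := by
  obtain ⟨T, hT, m, hm, ⟨e⟩⟩ := exists_power_subgroup h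
  let e' : Shrink.{0} T ≃* T := Shrink.mulEquiv
  exact ⟨Shrink.{0} T, inferInstance, e'.isSimpleGroup, m, hm,
    ⟨e.trans (MulEquiv.piCongrRight fun _ => e'.symm)⟩⟩

theorem charSimple_of_minimal_normal (N : Subgroup G) [N.Normal]
    (hmin : ∀ M : Subgroup G, M.Normal → M ≤ N → M = ⊥ ∨ M = N) (H : Subgroup N)
    (hH : H.Characteristic) : H = ⊥ ∨ H = ⊤ := by
  rcases hmin (H.map N.subtype) inferInstance (Subgroup.map_subtype_le _) with h | h
  · exact Or.inl ((Subgroup.map_eq_bot_iff_of_injective _ N.subtype_injective).mp h)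
  · right
    rw [eq_top_iff]
    intro x _
    have : (x : G) ∈ H.map N.subtype := by rw [h]; exact x.2
    obtain ⟨w, hw, e⟩ := this
    have : w = x := Subtype.ext e
    rwa [← this]

theorem charSimple_power {S : Type*} [Group S] [IsSimpleGroup S] {n : ℕ}
    (H : Subgroup (Fin n → S)) (hH : H.Characteristic) : H = ⊥ ∨ H = ⊤ := by
  classical
  by_cases hb : H = ⊥
  · exact Or.inl hb
  right
  obtain ⟨x, hx, hx1⟩ := (Subgroup.bot_or_exists_ne_one H).resolve_left hb
  obtain ⟨i, hi⟩ := Function.ne_iff.mp hx1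
  have hinv : ∀ (φ : (Fin n → S) ≃* (Fin n → S)), ∀ y ∈ H, φ y ∈ H := fun φ y hy =>
    Subgroup.characteristic_iff_le_comap.mp hH φ hy
  have hperm : ∀ (j k : Fin n) (s : S), Pi.mulSingle j s ∈ H → Pi.mulSingle k s ∈ H := by
    intro j k s hs
    have := hinv (MulEquiv.arrowCongr (Equiv.swap j k) (MulEquiv.refl S)) _ hs
    convert this using 1
    ext l
    simp only [MulEquiv.arrowCongr_apply, Equiv.symm_swap, MulEquiv.refl_apply, Pi.mulSingle_apply]
    congr 1
    rw [Equiv.swap_apply_eq_iff, Equiv.swap_apply_left]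
  suffices key : ∃ j, ∀ s : S, Pi.mulSingle j s ∈ H by
    obtain ⟨j, hj⟩ := key
    rw [eq_top_iff]
    exact fun y _ => PowSimple.mem_of_mulSingle_mem H y fun k => hperm j k _ (hj _)
  by_cases hS : IsMulCommutative S
  swap
  · exact ⟨i, PowSimple.mulSingle_mem hS H hx hi⟩
  have hc : ∀ a b : S, a * b = b * a := hS.is_comm.comm
  suffices key : ∃ j, Pi.mulSingle j (x i) ∈ H by
    obtain ⟨j, hj⟩ := key
    refine ⟨j, fun s => ?_⟩
    let L : Subgroup S := H.comap (MonoidHom.mulSingle (fun _ : Fin n => S) j)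
    have hL : L.Normal := ⟨fun a ha g => by rwa [hc g a, mul_inv_cancel_right]⟩
    rcases hL.eq_bot_or_eq_top with h | h
    · have : x i ∈ L := hj
      rw [h, Subgroup.mem_bot] at this
      exact absurd this hi
    · have : s ∈ L := by rw [h]; trivial
      exact this
  by_cases hj : ∃ j, j ≠ i
  · obtain ⟨j, hj⟩ := hj
    let φ : (Fin n → S) ≃* (Fin n → S) :=
      { toFun := fun y => y * Pi.mulSingle j (y i)
        invFun := fun y => y * Pi.mulSingle j (y i)⁻¹
        left_inv := fun y => by
          ext l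
          by_cases hl : l = j
          · subst hl; simp [hj.symm]
          · simp [hl]
        right_inv := fun y => by
          ext l
          by_cases hl : l = j
          · subst hl; simp [hj.symm]
          · simp [hl]
        map_mul' := fun y z => by
          ext l
          by_cases hl : l = j
          · subst hl
            simp only [Pi.mul_apply, Pi.mulSingle_eq_same]
            rw [mul_assoc, mul_assoc, ← mul_assoc (z l), hc (z l) (y i), mul_assoc]
          · simp [hl] }
    refine ⟨j, ?_⟩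
    have := H.mul_mem (H.inv_mem hx) (hinv φ x hx)
    simpa [φ] using this
  · push Not at hj
    refine ⟨i, ?_⟩
    convert hx
    ext l
    rw [hj l]; simp

end Cfsg.Agent.H3.CharSimple
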