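import Cfsg.Agent.H3.DR0

set_option autoImplicit false

/-! Glue for S5731. -/

namespace Cfsg.Agent.H3.DRg
open MulAction Finset Cfsg.Agent.H3.DR

universe u v

theorem fx_card {G : Type u} (Ω : Type v) [Group G] [MulAction G Ω] [Fintype Ω] (g : G) :
    Nat.card (fixedBy Ω g) = fx Ω g := by
  classical
  rw [fx, ← Fintype.card_coe, ← Nat.card_eq_fintype_card]
  exact Nat.card_congr (Equiv.subtypeEquivRight fun c => by simp)

theorem fx_zero {G : Type u} (Ω : Type v) [Group G] [MulAction G Ω] [Fintype Ω] (g : G) :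
    fx Ω g = 0 ↔ ∀ ω : Ω, g • ω ≠ ω := by
  classical
  rw [fx, card_eq_zero, filter_eq_empty_iff]
  simp

theorem tg (pb : PB.{u, v}) (p2 : P2.{u, v}) (p3 : P3.{u, v}) (pa : PA.{u, v}) (pm : PM.{u, v}) (pj : PJ.{u, v})
    (pp : PP.{u, v}) (pk : PK.{u, v}) (ps : PS.{u, v}) (pn : PN) :
    ∃ N : ℕ, 100 ≤ N ∧ ∀ (G : Type u) (Ω : Type v) [Group G] [Fintype G] [MulAction G Ω] [FaithfulSMul G Ω] [Fintype Ω],
      IsPreprimitive G Ω → N ≤ Fintype.card Ω →
      ((∀ g : G, g ≠ 1 → fx Ω g = 0) ∨ ∃ g : G, g ≠ 1 ∧ 2 ≤ fx Ω g) → Tg G Ω := by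
  obtain ⟨N, hN⟩ := pn
  refine ⟨max N (10 ^ 16), le_max_of_le_right (by norm_num), fun G Ω _ _ _ _ _ hp hn hx => ?_⟩
  classical
  have hn16 : 10 ^ 16 ≤ Fintype.card Ω := (le_max_right _ _).trans hn
  have hnN : N ≤ Fintype.card Ω := (le_max_left _ _).trans hn
  have htr : IsPretransitive G Ω := hp.toIsPretransitive
  haveI : Nonempty Ω := Fintype.card_pos_iff.1 (by omega)
  by_cases h1 : ∀ g : G, g ≠ 1 → (fx Ω g : ℝ) ≤ √(Fintype.card Ω)
  · exact p2 G Ω htr (by omega) h1 hx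
  push Not at h1
  by_cases h2 : ∀ a b : Ω, a ≠ b → Nat.card (stabilizer (stabilizer G a) b) ≤ 2
  · exact p3 G Ω hp (by omega) h2 h1
  push Not at h2
  obtain ⟨a0, b0, hab0, h3⟩ := h2
  obtain ⟨⟨a, b⟩, hab, hmin⟩ := exists_min_image (univ : Finset Ω).offDiag
    (fun p => Nat.card (orbit (stabilizer G p.1) p.2)) ⟨(a0, b0), by simp [hab0]⟩
  have hab' : a ≠ b := by simpa using hab
  set m := Nat.card (orbit (stabilizer G a) b) with hm
  have hsub : Sub G Ω m := fun c d hcd => hmin (c, d) (by simp [hcd])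
  have hm0 : 0 < m := by
    haveI : Nonempty (orbit (stabilizer G a) b) := ⟨⟨b, mem_orbit_self b⟩⟩
    exact Nat.card_pos
  have os : ∀ c d : Ω, Nat.card (orbit (stabilizer G c) d) * Nat.card (stabilizer (stabilizer G c) d) *
      Fintype.card Ω = Nat.card G := by
    intro c d
    rw [← Nat.card_prod, Nat.card_congr (orbitProdStabilizerEquivGroup (stabilizer G c) d), ← Nat.card_eq_fintype_card,
      ← index_stabilizer_of_transitive G c, Subgroup.card_mul_index]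
  have hl : 3 ≤ Nat.card (stabilizer (stabilizer G a) b) := by
    have e := Nat.eq_of_mul_eq_mul_right Fintype.card_pos ((os a b).trans (os a0 b0).symm)
    have e2 := hsub a0 b0 hab0
    by_contra hlt
    have e3 : m * Nat.card (stabilizer (stabilizer G a) b) ≤ m * 2 := Nat.mul_le_mul_left m (by omega)
    have e4 : m * 3 ≤ Nat.card (orbit (stabilizer G a0) b0) * Nat.card (stabilizer (stabilizer G a0) b0) :=
      Nat.mul_le_mul e2 h3
    rw [← hm] at e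
    omega
  obtain ⟨g0, hg0, hg0f⟩ := h1
  obtain ⟨g, hg, hmax⟩ := exists_max_image (univ.erase (1 : G)) (fun g => fx Ω g) ⟨g0, by simp [hg0]⟩
  have hg1 : g ≠ 1 := ne_of_mem_erase hg
  by_contra hT
  rw [Tg, not_le] at hT
  obtain ⟨-, -, b3, b4, b5, b6⟩ := pb G Ω htr
  have hPA := pa G Ω a b htr hab'
  have hPJ := pj G Ω a b m htr hn16 hab' hm hsub hl
  have hPM := pm G Ω m 0.36 htr hm0 hsub (by norm_num)
  have hPP := fun k ρ φ => pp G Ω g m k ρ φ htr hm0 hsub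
  have hPS := fun φ β => ps G Ω m φ β (by omega) hm0
  have hlt : fx Ω g < Fintype.card Ω := by
    rw [fx, ← card_univ]
    refine card_lt_card (filter_ssubset.2 ?_)
    by_contra h
    push Not at h
    exact hg1 (eq_of_smul_eq_smul (α := Ω) fun c => by rw [one_smul]; exact h c (mem_univ _))
  have hn16' : (10 : ℝ) ^ 16 ≤ (Fintype.card Ω : ℝ) := by exact_mod_cast hn16
  have hlt' : (fx Ω g : ℝ) < (Fintype.card Ω : ℝ) := by exact_mod_cast hlt
  have hmax' : ∀ x : G, x ≠ 1 → (fx Ω x : ℝ) ≤ fx Ω g := fun x hx => by exact_mod_cast hmax x (by simp [hx])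
  have hNn : (N : ℝ) ≤ (Fintype.card Ω : ℝ) := by exact_mod_cast hnN
  have hδ0 : 0 ≤ dl G Ω := by rw [dl]; positivity
  have hm0' : (0 : ℝ) < m := by exact_mod_cast hm0
  have b3' := b3 m hsub
  set n : ℝ := (Fintype.card Ω : ℝ) with hnd
  have hn0 : 0 < n := lt_of_lt_of_le (by positivity) hn16'
  have hrr : √n * √n = n := Real.mul_self_sqrt hn0.le
  have hr8 : 1e8 ≤ √n := Real.le_sqrt_of_sq_le (le_trans (by norm_num) hn16')
  have hr0 : 0 < √n := by linarith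
  have hδ : dl G Ω * √n ≤ 0.501 := by
    rw [lt_div_iff₀ (by positivity)] at hT
    have : dl G Ω * √n * √n ≤ 0.501 * √n := by rw [mul_assoc, hrr]; linarith
    exact le_of_mul_le_mul_right this hr0
  have h36 : √(0.36 : ℝ) = 0.6 := by
    rw [show (0.36 : ℝ) = 0.6 ^ 2 by norm_num, Real.sqrt_sq (by norm_num)]
  rw [h36] at hPM
  have hmix := hPM (by
    have : m * rk G Ω / n ≤ 1 := by rw [div_le_one hn0]; exact b3'
    linarith)
  set ρ := √n / (0.6 * m) with hρ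
  set φ := (fx Ω g : ℝ) / n with hφ
  have hφn : φ * n = fx Ω g := by rw [hφ]; field_simp
  have hφr : 1 / √n ≤ φ := by
    rw [hφ, div_le_div_iff₀ hr0 hn0]
    have := (hg0f.le.trans (hmax' g0 hg0))
    nlinarith
  have hφ0 : 0 < φ := lt_of_lt_of_le (by positivity) hφr
  have hφ1 : φ < 1 := by rw [hφ, div_lt_one hn0]; exact hlt'
  have hρ0 : 0 ≤ ρ := by positivity
  have hβ : 1 ≤ 1 + (1 - φ) * ρ / φ := by
    have := sub_pos.2 hφ1
    have : 0 ≤ (1 - φ) * ρ / φ := by positivity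
    linarith
  have hq : φ ^ 2 * (1 + (1 - φ) * ρ / φ) = φ ^ 2 + φ * (1 - φ) * ρ := by field_simp
  have hK : ∀ k : ℕ, Kq G Ω m (φ ^ k) ((φ ^ 2 * (1 + (1 - φ) * ρ / φ)) ^ k) := by
    intro k
    obtain ⟨Θ, _, y, J, hS⟩ := hPP k ρ φ hρ0 hmix rfl
    rw [hq]
    exact pk G Ω Θ y J m _ _ htr hm0 (by positivity) (pow_le_one₀ hφ0.le hφ1.le) hS
  obtain ⟨s1, s2⟩ := hPS φ _ hφr hφ1 hβ (fun x hx => by rw [hφn]; exact hmax' x hx) hK
  exact hN n m (dl G Ω) (jj G Ω) (MM G Ω) φ ρ _ hNn hm0' hδ0 hδ hPA (hPJ hδ) (b6 a b hab' hl) b4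
    (b5 _ fun x hx => by rw [hφn]; exact hmax' x hx) hφr hφ1 rfl rfl s1 s2

theorem main (pb : PB.{u, v}) (p1 : P1.{u, v}) (p2 : P2.{u, v}) (p3 : P3.{u, v}) (pa : PA.{u, v}) (pm : PM.{u, v})
    (pj : PJ.{u, v}) (pp : PP.{u, v}) (pk : PK.{u, v}) (ps : PS.{u, v}) (pn : PN) :
    ∃ N : ℕ, ∀ (G : Type u) (Ω : Type v) [Group G] [Finite G] [MulAction G Ω] [FaithfulSMul G Ω] [Fintype Ω],
      MulAction.IsPretransitive G Ω → N ≤ Fintype.card Ω →
      (MulAction.IsPreprimitive G Ω ∧ (MulAction.IsPretransitive G Ω ∧ (∃ g : G, g ≠ 1 ∧ ∃ ω : Ω, g • ω = ω) ∧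
        ∀ g : G, g ≠ 1 → Nat.card (MulAction.fixedBy Ω g) ≤ 1)) ∨
      (Real.sqrt (Fintype.card Ω) + 1) / (2 * Fintype.card Ω) * (Nat.card G : ℝ) ≤
        Nat.card {g : G // ∀ ω : Ω, g • ω ≠ ω} := by
  obtain ⟨N, hN100, hN⟩ := tg pb p2 p3 pa pm pj pp pk ps pn
  refine ⟨N, fun G Ω _ _ _ _ _ htr hn => ?_⟩
  classical
  letI : Fintype G := Fintype.ofFinite G
  have fin : Tg G Ω → (Real.sqrt (Fintype.card Ω) + 1) / (2 * Fintype.card Ω) * (Nat.card G : ℝ) ≤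
      Nat.card {g : G // ∀ ω : Ω, g • ω ≠ ω} := by
    intro h
    rw [Tg, dl, le_div_iff₀ (by exact_mod_cast Fintype.card_pos)] at h
    rw [Nat.card_eq_fintype_card]
    refine h.trans_eq ?_
    rw [← Fintype.card_coe, ← Nat.card_eq_fintype_card]
    congr 1
    exact Nat.card_congr (Equiv.subtypeEquivRight fun g => by simp [fx_zero])
  by_cases hp : IsPreprimitive G Ω
  · by_cases hx : (∀ g : G, g ≠ 1 → fx Ω g = 0) ∨ ∃ g : G, g ≠ 1 ∧ 2 ≤ fx Ω g
    · exact Or.inr (fin (hN G Ω hp hn hx))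
    · push Not at hx
      obtain ⟨⟨g, hg, hg0⟩, h2⟩ := hx
      refine Or.inl ⟨hp, htr, ⟨g, hg, ?_⟩, fun x hx => ?_⟩
      · by_contra h
        push Not at h
        exact hg0 ((fx_zero Ω g).2 h)
      · rw [fx_card]; have := h2 x hx; omega
  · exact Or.inr (fin (p1 G Ω htr (by omega) hp))

end Cfsg.Agent.H3.DRg
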