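import Cfsg.Agent.H3.DR0

set_option autoImplicit false

/-! Package `PN` for S5731. -/

namespace Cfsg.Agent.H3.DRn
open Cfsg.Agent.H3.DR Filter

theorem asy (ε C : ℝ) (hε : 0 < ε) (hC : 0 < C) : ∀ᶠ n : ℝ in atTop, C * (2 * Real.log n + 1) < n ^ ε := by
  have h1 := (isLittleO_log_rpow_atTop hε).bound (c := 1 / (4 * C)) (by positivity)
  have h2 := (tendsto_rpow_atTop hε).eventually_gt_atTop (2 * C)
  filter_upwards [h1, h2, eventually_ge_atTop (1 : ℝ)] with n a b c
  rw [Real.norm_of_nonneg (Real.log_nonneg c), Real.norm_of_nonneg (by positivity)] at a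
  have : C * (2 * Real.log n) ≤ n ^ ε / 2 := by
    have := mul_le_mul_of_nonneg_left a (show 0 ≤ 2 * C by positivity)
    have e : 2 * C * (1 / (4 * C) * n ^ ε) = n ^ ε / 2 := by field_simp; ring
    linarith
  linarith

theorem b8 {φ β ρ : ℝ} (h0 : 0 < φ) (h1 : φ < 1) (hρ0 : 0 ≤ ρ) (hρ : ρ ≤ 4e-6) (hφ : ρ ≤ φ)
    (hβ : β = 1 + (1 - φ) * ρ / φ) : β ^ 8 * φ ≤ 1 := by
  have hb0 : 0 ≤ (1 - φ) * ρ / φ := by have := sub_pos.2 h1; positivity
  by_cases h : φ ≤ 1 / 256
  · have : (1 - φ) * ρ / φ ≤ 1 := by rw [div_le_one h0]; nlinarith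
    have h2 : β ^ 8 ≤ 2 ^ 8 := pow_le_pow_left₀ (by linarith) (by linarith) 8
    nlinarith
  · push Not at h
    have : (1 - φ) * ρ / φ ≤ (1 - φ) / 8 := by
      rw [div_le_div_iff₀ h0 (by norm_num)]
      have : ρ * 8 ≤ φ := by linarith
      nlinarith
    have h2 : β ≤ Real.exp ((1 - φ) / 8) := by
      have := Real.add_one_le_exp ((1 - φ) / 8); linarith
    have h3 : β ^ 8 ≤ Real.exp (1 - φ) := by
      refine (pow_le_pow_left₀ (by linarith) h2 8).trans_eq ?_
      rw [← Real.exp_nat_mul]; congr 1; push_cast; ring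
    have h4 : φ ≤ Real.exp (φ - 1) := by have := Real.add_one_le_exp (φ - 1); linarith
    calc β ^ 8 * φ ≤ Real.exp (1 - φ) * Real.exp (φ - 1) := mul_le_mul h3 h4 h0.le (Real.exp_pos _).le
      _ = 1 := by rw [← Real.exp_add]; simp

theorem bL {φ β ρ : ℝ} (h0 : 4e-8 ≤ φ) (h1 : φ < 1) (hρ0 : 0 ≤ ρ) (hρ : ρ ≤ 0.84)
    (hβ : β = 1 + (1 - φ) * ρ / φ) : Real.log β ≤ -(1 - 5e-9) * Real.log φ := by
  have hp : 0 < φ := by linarith
  have hb0 : 0 ≤ (1 - φ) * ρ / φ := by have := sub_pos.2 h1; positivity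
  have e : β * φ = φ + (1 - φ) * ρ := by rw [hβ]; field_simp
  have h2 : Real.log (β * φ) ≤ β * φ - 1 := Real.log_le_sub_one_of_pos (by rw [hβ]; positivity)
  rw [Real.log_mul (by rw [hβ]; positivity) hp.ne'] at h2
  have h3 : 1 - φ⁻¹ ≤ Real.log φ := Real.one_sub_inv_le_log_of_pos hp
  have h4 : φ⁻¹ - 1 ≤ (1 - φ) * 2.5e7 := by
    have : φ⁻¹ - 1 = (1 - φ) * φ⁻¹ := by field_simp
    rw [this]
    refine mul_le_mul_of_nonneg_left ?_ (by linarith)
    rw [inv_le_comm₀ hp (by norm_num)]
    refine le_trans (by norm_num) h0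
  nlinarith

set_option maxHeartbeats 4000000 in
theorem pn : PN := by
  have ev := ((asy (1 / 8) 2e5 (by norm_num) (by norm_num)).and (asy (2.5e-9) 1e18 (by norm_num) (by norm_num))).and
    (eventually_ge_atTop (1e10 : ℝ))
  obtain ⟨N0, hN0⟩ := eventually_atTop.1 ev
  refine ⟨⌈N0⌉₊, fun n m δ j M φ ρ β hn hm hδ0 hδ hA hj hj3 hM hjφ hφ hφ1 hρ hβ hK1 hKs => ?_⟩
  obtain ⟨⟨as1, as2⟩, hn10⟩ := hN0 n ((Nat.le_ceil N0).trans hn)
  have hn0 : 0 < n := by linarith
  set r := √n with hr
  have hrr : r * r = n := Real.mul_self_sqrt hn0.le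
  have hr5 : 1e5 ≤ r := by
    rw [hr]; refine Real.le_sqrt_of_sq_le (by linarith)
  have hr0 : 0 < r := by linarith
  clear_value r
  clear hN0 ev hn
  have hφ0 : 0 < φ := lt_of_lt_of_le (by positivity) hφ
  have hx : 1 ≤ r * φ := by rw [div_le_iff₀ hr0] at hφ; linarith
  have hρ0 : 0 < ρ := by rw [hρ]; positivity
  have hρm : ρ * (0.6 * m) = r := by rw [hρ]; field_simp
  have hnm : n / m = 0.6 * ρ * r := by rw [div_eq_iff hm.ne', ← hrr]; linear_combination (-r) * hρm
  have hnmj : n / m ≤ 100 * j := by rw [div_le_iff₀ hm]; linarith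
  have hM' : 0.17 * j ≤ M := by nlinarith
  have hlog : 0 < 2 * Real.log n + 1 := by have := Real.log_nonneg (show 1 ≤ n by linarith); linarith
  have hb0 : 0 ≤ (1 - φ) * ρ / φ := by have := sub_pos.2 hφ1; positivity
  have hβ1 : 1 ≤ β := by linarith
  have hj0 : 0 < j := by linarith
  by_cases hsm : ρ ≤ 4e-6
  · by_cases h1 : φ ≤ ρ
    · have hb : β * φ ≤ 2 * ρ := by
        have : β * φ = φ + (1 - φ) * ρ := by rw [hβ]; field_simp
        nlinarith
      rw [hnm] at hK1 hnmj
      have h2 : n * φ ^ 2 + 0.6 * ρ * r ≤ 6.4e-6 * (r * (r * φ)) := by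
        have a1 : n * φ ^ 2 = r * (r * φ) * φ := by rw [← hrr]; ring
        have a2 : r * (r * φ) * φ ≤ r * (r * φ) * 4e-6 := mul_le_mul_of_nonneg_left (by linarith) (by positivity)
        have a3 : ρ * r ≤ 4e-6 * (r * (r * φ)) := by
          have : r ≤ r * (r * φ) := by nlinarith
          nlinarith
        linarith
      have h3 : M ≤ 121 * δ * β * (6.4e-6 * (r * (r * φ))) :=
        hK1.trans (mul_le_mul_of_nonneg_left h2 (by positivity))
      have h4 : 121 * δ * β * (6.4e-6 * (r * (r * φ))) = 121 * 6.4e-6 * ((δ * r) * (β * φ)) * r := by ring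
      have h5 : (δ * r) * (β * φ) ≤ 0.501 * (2 * ρ) := mul_le_mul hδ hb (by positivity) (by norm_num)
      have h6 : 121 * 6.4e-6 * ((δ * r) * (β * φ)) * r ≤ 121 * 6.4e-6 * (0.501 * (2 * ρ)) * r := by gcongr
      have h7 : 0 < ρ * r := by positivity
      nlinarith
    · push Not at h1
      by_cases h2 : φ ^ 2 * r ≤ 1e-4
      · have hb : β ≤ 2 := by
          have : (1 - φ) * ρ / φ ≤ 1 := by rw [div_le_one hφ0]; nlinarith
          linarith
        have h4 : M ≤ 121 * δ * 2 * (1.2e-3 * r * j) := by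
          refine hK1.trans ?_
          have a1 : n * φ ^ 2 = r * (φ ^ 2 * r) := by rw [← hrr]; ring
          have a2 : r * (φ ^ 2 * r) ≤ r * 1e-4 := mul_le_mul_of_nonneg_left h2 hr0.le
          have a3 : 1e5 * j ≤ r * j := by gcongr
          have a4 : r * (2 / 3) ≤ r * j := by gcongr
          have a5 : n * φ ^ 2 + n / m ≤ 1.2e-3 * r * j := by linarith
          gcongr
        have h5 : 121 * δ * 2 * (1.2e-3 * r * j) = 0.2904 * ((δ * r) * j) := by ring
        have h6 : (δ * r) * j ≤ 0.501 * j := by gcongr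
        linarith
      · push Not at h2
        obtain ⟨k, hk1, hk2⟩ := hKs 1.1 le_rfl (by linarith)
        set w := n ^ (1 / 8 : ℝ) with hw
        have hw0 : 0 < w := by positivity
        have hw8 : w ^ 8 = n := by rw [hw, ← Real.rpow_natCast, ← Real.rpow_mul hn0.le]; norm_num
        have hw4 : w ^ 4 = r := by
          refine (pow_left_inj₀ (by positivity) hr0.le two_ne_zero).1 ?_
          rw [← pow_mul, hw8, pow_two, hrr]
        have hw1 : 1 ≤ w := by
          by_contra hlt
          have := pow_le_one₀ (n := 4) hw0.le (not_le.1 hlt).le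
          linarith
        have hbk : β ^ k ≤ w := by
          refine (pow_le_pow_iff_left₀ (by positivity) hw0.le (show 8 ≠ 0 by norm_num)).1 ?_
          have a1 := pow_le_one₀ (n := k) (by positivity) (b8 hφ0 hφ1 hρ0.le hsm h1.le hβ)
          rw [mul_pow, ← pow_mul, mul_comm 8 k, pow_mul] at a1
          have a2 : 1 / n ≤ φ ^ k := le_trans (by gcongr; norm_num) hk1
          have a3 : (β ^ k) ^ 8 * (1 / n) ≤ 1 := le_trans (by gcongr) a1
          rw [mul_one_div, div_le_one hn0] at a3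
          rw [hw8]; exact a3
        have hφw : 2 * 1.1 / φ ≤ 220 * w ^ 2 := by
          rw [div_le_iff₀ hφ0]
          have : (1e-2 : ℝ) ≤ φ * w ^ 2 := by
            refine (pow_le_pow_iff_left₀ (by norm_num) (by positivity) two_ne_zero).1 ?_
            rw [mul_pow, ← pow_mul, hw4]; linarith
          linarith
        have h3 : 2 * 1.1 / φ + n / m ≤ 430 * (w ^ 2 * j) := by
          have a1 : w ^ 2 * (2 / 3) ≤ w ^ 2 * j := by gcongr
          have a2 : 1 * j ≤ w ^ 2 * j := by gcongr; exact one_le_pow₀ hw1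
          linarith
        have h4 : M ≤ (2 * Real.log n + 1) * 121 * δ * w * (430 * (w ^ 2 * j)) := by
          refine hk2.trans ?_
          gcongr
        have h5 : 2e5 * M * w ≤ w * 121 * 430 * (δ * r) * j := by
          have a1 : 2e5 * M * w ≤ (2e5 * (2 * Real.log n + 1)) * (121 * 430 * (δ * r) * j) := by
            rw [← hw4]
            have := mul_le_mul_of_nonneg_right h4 (show 0 ≤ 2e5 * w by positivity)
            linarith
          have a2 : (2e5 * (2 * Real.log n + 1)) * (121 * 430 * (δ * r) * j) ≤ w * (121 * 430 * (δ * r) * j) := by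
            gcongr
          linarith
        have h6 : w * 121 * 430 * (δ * r) * j ≤ w * 121 * 430 * 0.501 * j := by gcongr
        have h7 : 2e5 * (0.17 * j) * w ≤ 2e5 * M * w := by gcongr
        have h8 : 0 < w * j := by positivity
        linarith
  · push Not at hsm
    have hρ84 : ρ ≤ 0.84 := by
      have a1 : r ≤ 0.501 * (m + 1) := by
        have : r * 1 ≤ r * (δ * (m + 1)) := by gcongr
        have h2 : (δ * r) * (m + 1) ≤ 0.501 * (m + 1) := by gcongr
        linarith
      rw [hρ, div_le_iff₀ (by positivity)]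
      linarith
    have hjr : 2.4e-8 * r ≤ j := by
      rw [hnm] at hnmj
      have : 4e-6 * r ≤ ρ * r := by gcongr
      linarith
    have hφ8 : 4e-8 ≤ φ := by
      have a1 : φ * n * δ = φ * r * (δ * r) := by rw [← hrr]; ring
      have a2 : φ * r * (δ * r) ≤ φ * r * 0.501 := by gcongr
      have a3 : 2.4e-8 * r ≤ (0.501 * φ) * r := by linarith
      have := le_of_mul_le_mul_right a3 hr0
      linarith
    obtain ⟨k, hk1, hk2⟩ := hKs r (by linarith) le_rfl
    set w := n ^ (2.5e-9 : ℝ) with hw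
    have hw0 : 0 < w := by positivity
    have hbk : β ^ k * w ≤ r := by
      rw [← Real.log_le_log_iff (by positivity) hr0, Real.log_mul (by positivity) hw0.ne', Real.log_pow, hw,
        Real.log_rpow hn0]
      have a1 := bL hφ8 hφ1 hρ0.le hρ84 hβ
      have a2 : r / n = r⁻¹ := by rw [← hrr]; field_simp
      have a3 := Real.log_le_log (by positivity) hk1
      rw [a2, Real.log_inv, Real.log_pow] at a3
      have a4 : Real.log n = 2 * Real.log r := by rw [← hrr, Real.log_mul hr0.ne' hr0.ne']; ring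
      have a5 := mul_le_mul_of_nonneg_left a1 (Nat.cast_nonneg (α := ℝ) k)
      rw [a4]
      linarith
    have h3 : 2 * r / φ + n / m ≤ 2.2e15 * j := by
      have : 2 * r / φ ≤ 5e7 * r := by
        rw [div_le_iff₀ hφ0]
        have : r * 4e-8 ≤ r * φ := by gcongr
        linarith
      linarith
    have h4 : M ≤ (2 * Real.log n + 1) * 121 * δ * β ^ k * (2.2e15 * j) := by
      refine hk2.trans ?_
      gcongr
    have h5 : 1e18 * M ≤ (1e18 * (2 * Real.log n + 1)) * (121 * δ * β ^ k * (2.2e15 * j)) := by linarith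
    have h6 : (1e18 * (2 * Real.log n + 1)) * (121 * δ * β ^ k * (2.2e15 * j)) ≤
        w * (121 * δ * β ^ k * (2.2e15 * j)) := by gcongr
    have h7 : w * (121 * δ * β ^ k * (2.2e15 * j)) = 121 * 2.2e15 * (δ * (β ^ k * w)) * j := by ring
    have h8 : δ * (β ^ k * w) ≤ 0.501 := le_trans (by gcongr) hδ
    have h9 : 121 * 2.2e15 * (δ * (β ^ k * w)) * j ≤ 121 * 2.2e15 * 0.501 * j := by gcongr
    linarith

end Cfsg.Agent.H3.DRn
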