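import Mathlib
import Cfsg.Agent.H3.SymIndex

/-! Stabilisers of uniform partitions in symmetric and alternating groups. -/

set_option autoImplicit false

namespace Cfsg.Agent.H3.PartStab

open MulAction Equiv Equiv.Perm
open scoped Pointwise

variable {Ω ι : Type*}

/-- The stabiliser of the partition into the fibres of `f`. -/
def W (f : Ω → ι) : Subgroup (Perm Ω) where
  carrier := {g | ∀ x y : Ω, f x = f y ↔ f (g x) = f (g y)}
  mul_mem' := fun {a b} ha hb x y => (hb x y).trans (ha _ _)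
  one_mem' := fun _ _ => Iff.rfl
  inv_mem' := fun {a} ha x y => by
    have := ha (a⁻¹ x) (a⁻¹ y)
    simpa using this.symm

theorem closure_eq (f : Ω → ι) :
    Subgroup.closure {g : Perm Ω | ∀ x y : Ω, f x = f y ↔ f (g x) = f (g y)} = W f :=
  Subgroup.closure_eq (W f)

theorem mem_W_of_perm (f : Ω → ι) (g : Perm Ω) (σ : Perm ι) (h : ∀ x, f (g x) = σ (f x)) :
    g ∈ W f := fun x y => by rw [h, h, σ.apply_eq_iff_eq]

theorem swap_mem_W [DecidableEq Ω] {f : Ω → ι} {y z : Ω} (h : f y = f z) : swap y z ∈ W f :=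
  mem_W_of_perm f _ 1 fun x => by
    rw [swap_apply_def]
    split_ifs with h1 h2
    · rw [h1, h]; rfl
    · rw [h2, h]; rfl
    · rfl

theorem exists_equiv [Finite Ω] {a : ℕ} (f : Ω → ι) (hf : ∀ i, Nat.card {x // f x = i} = a) :
    ∃ e : Ω ≃ ι × Fin a, ∀ x, (e x).1 = f x := by
  have h : ∀ i, Nonempty ({x // f x = i} ≃ Fin a) := fun i => Finite.card_eq.mp (by simp [hf])
  exact ⟨(sigmaFiberEquiv f).symm.trans ((sigmaCongrRight fun i => (h i).some).trans
    (sigmaEquivProd ι (Fin a))), fun x => rfl⟩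

theorem exists_lift [Finite Ω] {a : ℕ} {f : Ω → ι} (hf : ∀ i, Nat.card {x // f x = i} = a)
    (σ : Perm ι) : ∃ w : Perm Ω, (∀ x, f (w x) = σ (f x)) ∧ ∀ x, σ (f x) = f x → w x = x := by
  obtain ⟨e, he⟩ := exists_equiv f hf
  refine ⟨e.trans ((σ.prodCongr (Equiv.refl _)).trans e.symm), fun x => ?_, fun x hx => ?_⟩
  · rw [← he, ← he]; simp
  · simp only [trans_apply, prodCongr_apply, coe_refl]
    rw [symm_apply_eq]
    ext
    · simp [he, hx]
    · simp

theorem exists_two_in_fibre [Finite Ω] {a : ℕ} {f : Ω → ι}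
    (hf : ∀ i, Nat.card {x // f x = i} = a) (ha : 2 ≤ a) (i : ι) :
    ∃ u v, u ≠ v ∧ f u = i ∧ f v = i := by
  obtain ⟨u, v, h⟩ := (Finite.one_lt_card_iff_nontrivial.mp
    (show 1 < Nat.card {x // f x = i} by rw [hf]; omega)).exists_pair_ne
  exact ⟨u, v, Subtype.coe_ne_coe.mpr h, u.2, v.2⟩

theorem exists_other_in_fibre [Finite Ω] {a : ℕ} {f : Ω → ι}
    (hf : ∀ i, Nat.card {x // f x = i} = a) (ha : 2 ≤ a) (x : Ω) :
    ∃ u, u ≠ x ∧ f u = f x := by
  obtain ⟨u, v, h, hu, hv⟩ := exists_two_in_fibre hf ha (f x)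
  by_cases hux : u = x
  · exact ⟨v, fun e => h (hux.trans e.symm), hv⟩
  · exact ⟨u, hux, hu⟩

theorem exists_two_others_in_fibre [Finite Ω] {a : ℕ} {f : Ω → ι}
    (hf : ∀ i, Nat.card {x // f x = i} = a) (ha : 3 ≤ a) (x : Ω) :
    ∃ u v, u ≠ v ∧ u ≠ x ∧ v ≠ x ∧ f u = f x ∧ f v = f x := by
  have := Fintype.ofFinite {y // f y = f x}
  obtain ⟨u, v, w, h1, h2, h3⟩ := Fintype.two_lt_card_iff.mp
    (show 2 < Fintype.card {y // f y = f x} by rw [← Nat.card_eq_fintype_card, hf]; omega)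
  have h1' := Subtype.coe_ne_coe.mpr h1
  have h2' := Subtype.coe_ne_coe.mpr h2
  have h3' := Subtype.coe_ne_coe.mpr h3
  by_cases hu : (u : Ω) = x
  · exact ⟨v, w, h3', fun e => h1' (hu.trans e.symm), fun e => h2' (hu.trans e.symm), v.2, w.2⟩
  by_cases hv : (v : Ω) = x
  · exact ⟨u, w, h2', hu, fun e => h3' (hv.trans e.symm), u.2, w.2⟩
  · exact ⟨u, v, h1', hu, hv, u.2, v.2⟩

theorem eq_or_eq_of_card_two [Finite Ω] {f : Ω → ι} (hf : ∀ i, Nat.card {x // f x = i} = 2)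
    {x x' y : Ω} (h : x' ≠ x) (h1 : f x' = f x) (h2 : f y = f x) : y = x ∨ y = x' := by
  by_contra hcon
  push Not at hcon
  have := Fintype.ofFinite {y // f y = f x}
  have h3 : 2 < Fintype.card {y // f y = f x} := Fintype.two_lt_card_iff.mpr
    ⟨⟨x, rfl⟩, ⟨x', h1⟩, ⟨y, h2⟩, fun e => h (congrArg Subtype.val e).symm,
      fun e => hcon.1 (congrArg Subtype.val e).symm, fun e => hcon.2 (congrArg Subtype.val e).symm⟩
  rw [← Nat.card_eq_fintype_card, hf] at h3
  omega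

variable [Fintype Ω] [DecidableEq Ω]

theorem exists_W_map {a : ℕ} {f : Ω → ι} (hf : ∀ i, Nat.card {x // f x = i} = a) (y z : Ω) :
    ∃ w ∈ W f, w y = z ∧ ∀ x, f x ≠ f y → f x ≠ f z → w x = x := by
  classical
  obtain ⟨w, h1, h2⟩ := exists_lift hf (swap (f y) (f z))
  have h3 : f (w y) = f z := by rw [h1, swap_apply_left]
  refine ⟨swap (w y) z * w, (W f).mul_mem (swap_mem_W h3) (mem_W_of_perm f w _ h1), by simp,
    fun x hx hx' => ?_⟩
  rw [Perm.mul_apply, h2 x (swap_apply_of_ne_of_ne hx hx'), swap_apply_of_ne_of_ne]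
  · rintro rfl; exact hx' h3
  · rintro rfl; exact hx' rfl

theorem fix_parity {f : Ω → ι} {w : Perm Ω} (hw : w ∈ W f) {u v : Ω} (huv : u ≠ v)
    (h : f u = f v) : ∃ w' ∈ W f ⊓ alternatingGroup Ω, ∀ x, w x ≠ u → w x ≠ v → w' x = w x := by
  rcases Int.units_eq_one_or (sign w) with e | e
  · exact ⟨w, ⟨hw, e⟩, fun _ _ _ => rfl⟩
  · refine ⟨swap u v * w, ⟨(W f).mul_mem (swap_mem_W h) hw, ?_⟩, fun x h1 h2 => ?_⟩
    · change sign _ = 1
      rw [map_mul, sign_swap huv, e]; rfl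
    · rw [Perm.mul_apply, swap_apply_of_ne_of_ne h1 h2]

theorem card_eq [Finite ι] {a : ℕ} {f : Ω → ι} (hf : ∀ i, Nat.card {x // f x = i} = a) :
    Nat.card Ω = Nat.card ι * a := by
  obtain ⟨e, -⟩ := exists_equiv f hf
  rw [Nat.card_congr e]; simp

theorem primitive_of [Finite ι] {a : ℕ} {f : Ω → ι} (hf : ∀ i, Nat.card {x // f x = i} = a)
    (hb : 2 ≤ Nat.card ι) (G : Subgroup (Perm Ω)) (h0 : ∀ x y, ∃ g ∈ G, g x = y)
    (h1 : ∀ x y z, f y = f x → f z = f x → y ≠ x → z ≠ x → ∃ g ∈ G, g x = x ∧ g y = z)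
    (h2 : ∀ x y z, f y ≠ f x → f z ≠ f x → ∃ g ∈ G, g x = x ∧ g y = z)
    (h3 : ¬ G ≤ W f) : IsPreprimitive G Ω := by
  have ht : IsPretransitive G Ω := ⟨fun x y => by
    obtain ⟨g, hg, e⟩ := h0 x y
    exact ⟨⟨g, hg⟩, e⟩⟩
  have key : ∀ B : Set Ω, IsBlock G B → ¬ IsTrivialBlock B → ∀ x ∈ B, ∀ y, y ∈ B ↔ f y = f x := by
    intro B hB hB' x hx
    have hstab : ∀ g ∈ G, g x = x → ∀ y ∈ B, g y ∈ B := by
      intro g hg e y hy
      rw [← isBlock_iff_smul_eq_of_mem.mp hB (g := ⟨g, hg⟩) hx (by change g x ∈ B; rwa [e])]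
      exact ⟨y, hy, rfl⟩
    have hsub : ∀ y ∈ B, f y = f x := by
      intro y hy
      by_contra hne
      refine hB' (Or.inr (hB.eq_univ_of_card_lt ?_))
      have h4 : insert x {z | f z = f x}ᶜ ⊆ B := by
        rintro z (rfl | hz)
        · exact hx
        · obtain ⟨g, hg, e1, e2⟩ := h2 x y z hne hz
          exact e2 ▸ hstab g hg e1 y hy
      have h5 := Set.ncard_le_ncard h4
      rw [Set.ncard_insert_of_notMem (by simp)] at h5
      have h6 := Set.ncard_add_ncard_compl {z | f z = f x}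
      have h7 : {z | f z = f x}.ncard = a := hf (f x)
      have h8 := card_eq hf
      have : 2 * a ≤ Nat.card ι * a := Nat.mul_le_mul_right _ hb
      omega
    refine fun z => ⟨hsub z, fun hz => ?_⟩
    by_cases hzx : z = x
    · rwa [hzx]
    obtain ⟨y, hy, hyx⟩ := (Set.not_subsingleton_iff.mp fun h => hB' (Or.inl h)).exists_ne x
    obtain ⟨g, hg, e1, e2⟩ := h1 x y z (hsub y hy) hz hyx hzx
    exact e2 ▸ hstab g hg e1 y hy
  refine ⟨fun {B} hB => ?_⟩
  by_contra hB'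
  apply h3
  intro g hg u v
  obtain ⟨x, hx⟩ := (Set.not_subsingleton_iff.mp fun h => hB' (Or.inl h)).nonempty
  obtain ⟨k, hk⟩ := exists_smul_eq G x u
  have hu : u ∈ k • B := ⟨x, hx, hk⟩
  have e1 := key (k • B) (hB.translate k) (fun h => hB' ((IsTrivialBlock.smul_iff k).mp h)) u hu v
  have e2 := key ((⟨g, hg⟩ : G) • k • B) ((hB.translate k).translate _)
    (fun h => hB' ((IsTrivialBlock.smul_iff k).mp ((IsTrivialBlock.smul_iff _).mp h)))
    (g u) ⟨u, hu, rfl⟩ (g v)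
  rw [eq_comm, ← e1, eq_comm, ← e2]
  exact (Set.smul_mem_smul_set_iff (a := (⟨g, hg⟩ : G))).symm

theorem isCoatom_W [Finite ι] {a : ℕ} {f : Ω → ι} (hf : ∀ i, Nat.card {x // f x = i} = a)
    (ha : 2 ≤ a) (hb : 2 ≤ Nat.card ι) : IsCoatom (W f) := by
  obtain ⟨i, j, hij⟩ := (Finite.one_lt_card_iff_nontrivial.mp hb).exists_pair_ne
  obtain ⟨x, x', hx, h1, h2⟩ := exists_two_in_fibre hf ha i
  obtain ⟨y, -, -, h3, -⟩ := exists_two_in_fibre hf ha j
  constructor
  · intro e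
    have : swap x' y ∈ W f := by rw [e]; trivial
    have := (this x x').mp (h1.trans h2.symm)
    rw [swap_apply_left, swap_apply_of_ne_of_ne hx (by rintro rfl; exact hij (h1.symm.trans h3)),
      h1, h3] at this
    exact hij this
  · intro G hG
    refine subgroup_eq_top_of_isPreprimitive_of_isSwap_mem ?_ (swap x x') ⟨x, x', hx, rfl⟩
      (hG.le (swap_mem_W (h1.trans h2.symm)))
    refine primitive_of hf hb G (fun y z => ?_) (fun x y z h1 h2 h3 h4 => ?_)
      (fun x y z h1 h2 => ?_) hG.not_ge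
    · obtain ⟨w, hw, e, -⟩ := exists_W_map hf y z
      exact ⟨w, hG.le hw, e⟩
    · exact ⟨swap y z, hG.le (swap_mem_W (h1.trans h2.symm)),
        swap_apply_of_ne_of_ne h3.symm h4.symm, swap_apply_left _ _⟩
    · obtain ⟨w, hw, e, e'⟩ := exists_W_map hf y z
      exact ⟨w, hG.le hw, e' x h1.symm h2.symm, e⟩

theorem even_transitive [Finite ι] {a : ℕ} {f : Ω → ι} (hf : ∀ i, Nat.card {x // f x = i} = a)
    (ha : 2 ≤ a) (hb : 2 ≤ Nat.card ι) (y z : Ω) : ∃ w ∈ W f ⊓ alternatingGroup Ω, w y = z := by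
  have := Finite.one_lt_card_iff_nontrivial.mp hb
  obtain ⟨w, hw, e, -⟩ := exists_W_map hf y z
  obtain ⟨i, hi⟩ := exists_ne (f z)
  obtain ⟨u, v, h1, h2, h3⟩ := exists_two_in_fibre hf ha i
  obtain ⟨w', hw', e'⟩ := fix_parity hw h1 (h2.trans h3.symm)
  refine ⟨w', hw', ?_⟩
  rw [e', e] <;> rw [e] <;> rintro rfl
  exacts [hi h2.symm, hi h3.symm]

theorem even_h1 [Finite ι] {a : ℕ} {f : Ω → ι} (hf : ∀ i, Nat.card {x // f x = i} = a)
    (ha : 2 ≤ a) (hb : 2 ≤ Nat.card ι) (x y z : Ω) (h1 : f y = f x) (h2 : f z = f x) (h3 : y ≠ x)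
    (h4 : z ≠ x) : ∃ w ∈ W f ⊓ alternatingGroup Ω, w x = x ∧ w y = z := by
  have := Finite.one_lt_card_iff_nontrivial.mp hb
  obtain ⟨i, hi⟩ := exists_ne (f x)
  obtain ⟨u, v, k1, k2, k3⟩ := exists_two_in_fibre hf ha i
  obtain ⟨w', hw', e'⟩ := fix_parity (swap_mem_W (h1.trans h2.symm)) k1 (k2.trans k3.symm)
  have e1 : swap y z x = x := swap_apply_of_ne_of_ne h3.symm h4.symm
  have e2 : swap y z y = z := swap_apply_left _ _
  refine ⟨w', hw', ?_, ?_⟩
  · rw [e', e1] <;> rw [e1] <;> rintro rfl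
    exacts [hi k2.symm, hi k3.symm]
  · rw [e', e2] <;> rw [e2] <;> rintro rfl
    exacts [hi (k2.symm.trans h2), hi (k3.symm.trans h2)]

theorem even_h2 [Finite ι] {a : ℕ} {f : Ω → ι} (hf : ∀ i, Nat.card {x // f x = i} = a)
    (ha : 2 ≤ a) (hab : 3 ≤ a ∨ 3 ≤ Nat.card ι) (x y z : Ω) (h1 : f y ≠ f x) (h2 : f z ≠ f x) :
    ∃ w ∈ W f ⊓ alternatingGroup Ω, w x = x ∧ w y = z := by
  classical
  obtain ⟨w, hw, e2, e1⟩ := exists_W_map hf y z
  replace e1 := e1 x h1.symm h2.symm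
  obtain ⟨u, v, k1, k2, k3, k4, k5, k6⟩ :
      ∃ u v, u ≠ v ∧ f u = f v ∧ x ≠ u ∧ x ≠ v ∧ z ≠ u ∧ z ≠ v := by
    rcases hab with h | h
    · obtain ⟨u, v, k1, k2, k3, k4, k5⟩ := exists_two_others_in_fibre hf h z
      refine ⟨u, v, k1, k4.trans k5.symm, ?_, ?_, k2.symm, k3.symm⟩ <;> rintro rfl
      exacts [h2 k4.symm, h2 k5.symm]
    · have := Fintype.ofFinite ι
      obtain ⟨i, -, hi⟩ := Finset.exists_mem_notMem_of_card_lt_card (s := {f x, f z})
        (t := Finset.univ) (lt_of_le_of_lt Finset.card_le_two (by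
          rw [Finset.card_univ, ← Nat.card_eq_fintype_card]; omega))
      simp only [Finset.mem_insert, Finset.mem_singleton, not_or] at hi
      obtain ⟨u, v, k1, k2, k3⟩ := exists_two_in_fibre hf ha i
      refine ⟨u, v, k1, k2.trans k3.symm, ?_, ?_, ?_, ?_⟩ <;> rintro rfl
      exacts [hi.1 k2.symm, hi.1 k3.symm, hi.2 k2.symm, hi.2 k3.symm]
  obtain ⟨w', hw', e'⟩ := fix_parity hw k1 k2
  exact ⟨w', hw', by rw [e' x (e1.symm ▸ k3) (e1.symm ▸ k4), e1],
    by rw [e' y (e2.symm ▸ k5) (e2.symm ▸ k6), e2]⟩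

theorem swap_mul_swap_mem {f : Ω → ι} {x x' y y' : Ω} (hx : x ≠ x') (hy : y ≠ y')
    (h1 : f x = f x') (h2 : f y = f y') : swap x x' * swap y y' ∈ W f ⊓ alternatingGroup Ω :=
  ⟨(W f).mul_mem (swap_mem_W h1) (swap_mem_W h2),
    mul_mem_alternatingGroup_of_isSwap ⟨_, _, hx, rfl⟩ ⟨_, _, hy, rfl⟩⟩

theorem good_translate {a : ℕ} {f : Ω → ι} (hf : ∀ i, Nat.card {x // f x = i} = a)
    {G : Subgroup (Perm Ω)} (hG : W f ⊓ alternatingGroup Ω ≤ G) {g : Perm Ω} (hg : g ∈ G) :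
    (∀ i, Nat.card {x // (f ∘ g) x = i} = a) ∧ W (f ∘ g) ⊓ alternatingGroup Ω ≤ G := by
  refine ⟨fun i => ?_, fun w hw => ?_⟩
  · rw [← hf i]
    exact Nat.card_congr (g.subtypeEquiv fun _ => Iff.rfl)
  · have h1 : g * w * g⁻¹ ∈ W f ⊓ alternatingGroup Ω := by
      refine ⟨fun x y => ?_, (alternatingGroup.normal).conj_mem _ hw.2 g⟩
      simpa using hw.1 (g⁻¹ x) (g⁻¹ y)
    have := G.mul_mem (G.mul_mem (G.inv_mem hg) (hG h1)) hg
    simpa [mul_assoc] using this

theorem three_cycle_of_share {f₁ f₂ : Ω → ι} (hf : ∀ i, Nat.card {x // f₁ x = i} = 2)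
    {G : Subgroup (Perm Ω)} (h1 : W f₁ ⊓ alternatingGroup Ω ≤ G)
    (h2 : W f₂ ⊓ alternatingGroup Ω ≤ G) {s t x y : Ω} (hst : s ≠ t) (k1 : f₁ s = f₁ t)
    (k2 : f₂ s = f₂ t) (k3 : f₂ x = f₂ y) (k4 : f₁ x ≠ f₁ y) : ∃ c ∈ G, IsThreeCycle c := by
  obtain ⟨x', hx', e⟩ := exists_other_in_fibre hf le_rfl x
  have hxy : x ≠ y := fun e => k4 (e ▸ rfl)
  have hu := h2 (swap_mul_swap_mem hxy hst k3 k2)
  have hv := h1 (swap_mul_swap_mem hst hx'.symm k1 e.symm)
  refine ⟨_, G.mul_mem hu hv, ?_⟩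
  rw [mul_assoc, ← mul_assoc (swap s t), swap_mul_self, one_mul]
  exact isThreeCycle_swap_mul_swap_same hxy hx'.symm (by rintro rfl; exact k4 e.symm)

theorem three_cycle_of_pairs [Finite ι] {f₁ f₂ : Ω → ι} (hf₁ : ∀ i, Nat.card {x // f₁ x = i} = 2)
    (hf₂ : ∀ i, Nat.card {x // f₂ x = i} = 2) (hb : 3 ≤ Nat.card ι) (hb4 : Nat.card ι ≠ 4)
    {G : Subgroup (Perm Ω)} (h1 : W f₁ ⊓ alternatingGroup Ω ≤ G)
    (h2 : W f₂ ⊓ alternatingGroup Ω ≤ G) {x y : Ω} (k3 : f₂ x = f₂ y) (k4 : f₁ x ≠ f₁ y) :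
    ∃ c ∈ G, IsThreeCycle c := by
  classical
  have := Fintype.ofFinite ι
  have hxy : x ≠ y := fun e => k4 (e ▸ rfl)
  obtain ⟨x', hx', ex⟩ := exists_other_in_fibre hf₁ le_rfl x
  have hx'y : x' ≠ y := by rintro rfl; exact k4 ex.symm
  have hxx' : f₂ x' ≠ f₂ x := fun e => by
    rcases eq_or_eq_of_card_two hf₂ hxy.symm k3.symm e with h | h
    exacts [hx' h, hx'y h]
  rcases (by omega : Nat.card ι = 3 ∨ 5 ≤ Nat.card ι) with hb | hb
  · obtain ⟨y', hy', ey⟩ := exists_other_in_fibre hf₁ le_rfl y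
    obtain ⟨z, hz, ez⟩ := exists_other_in_fibre hf₂ le_rfl x'
    have hxy' : x ≠ y' := by rintro rfl; exact k4 ey
    have hx'y' : x' ≠ y' := by rintro rfl; exact k4 (ex.symm.trans ey)
    by_cases hzy : z = y'
    · subst hzy
      obtain ⟨i, -, hi⟩ := Finset.exists_mem_notMem_of_card_lt_card (s := {f₁ x, f₁ y})
        (t := Finset.univ) (lt_of_le_of_lt Finset.card_le_two (by
          rw [Finset.card_univ, ← Nat.card_eq_fintype_card]; omega))
      simp only [Finset.mem_insert, Finset.mem_singleton, not_or] at hi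
      obtain ⟨s, t, hst, hs, ht⟩ := exists_two_in_fibre hf₁ le_rfl i
      have hnot : ∀ u, f₁ u = i → f₂ u ∈ (Finset.univ \ {f₂ x, f₂ x'} : Finset ι) := by
        intro u hu
        simp only [Finset.mem_sdiff, Finset.mem_univ, Finset.mem_insert, Finset.mem_singleton,
          true_and, not_or]
        refine ⟨fun e => ?_, fun e => ?_⟩
        · rcases eq_or_eq_of_card_two hf₂ hxy.symm k3.symm e with rfl | rfl
          exacts [hi.1 hu.symm, hi.2 hu.symm]
        · rcases eq_or_eq_of_card_two hf₂ hz ez e with rfl | rfl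
          exacts [hi.1 (hu.symm.trans ex), hi.2 (hu.symm.trans ey)]
      have hc : (Finset.univ \ {f₂ x, f₂ x'} : Finset ι).card ≤ 1 := by
        rw [Finset.card_sdiff_of_subset (Finset.subset_univ _), Finset.card_pair hxx'.symm,
          Finset.card_univ, ← Nat.card_eq_fintype_card]
        omega
      exact three_cycle_of_share hf₁ h1 h2 hst (hs.trans ht.symm)
        (Finset.card_le_one.mp hc _ (hnot s hs) _ (hnot t ht)) k3 k4
    · have hzx : z ≠ x := by rintro rfl; exact hxx' ez.symm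
      have hzy' : z ≠ y := by rintro rfl; exact hxx' (ez.symm.trans k3.symm)
      have hh : swap x y * swap x' y' ∈ W f₁ ⊓ alternatingGroup Ω := by
        refine ⟨mem_W_of_perm _ _ (swap (f₁ x) (f₁ y)) fun u => ?_,
          mul_mem_alternatingGroup_of_isSwap ⟨_, _, hxy, rfl⟩ ⟨_, _, hx'y', rfl⟩⟩
        rw [Perm.mul_apply]
        by_cases c1 : f₁ u = f₁ x
        · rw [c1, swap_apply_left]
          rcases eq_or_eq_of_card_two hf₁ hx' ex c1 with rfl | rfl
          · rw [swap_apply_of_ne_of_ne hx'.symm hxy', swap_apply_left]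
          · rw [swap_apply_left, swap_apply_of_ne_of_ne hxy'.symm hy', ey]
        by_cases c2 : f₁ u = f₁ y
        · rw [c2, swap_apply_right]
          rcases eq_or_eq_of_card_two hf₁ hy' ey c2 with rfl | rfl
          · rw [swap_apply_of_ne_of_ne hx'y.symm hy'.symm, swap_apply_right]
          · rw [swap_apply_right, swap_apply_of_ne_of_ne hx' hx'y, ex]
        · rw [swap_apply_of_ne_of_ne c1 c2, swap_apply_of_ne_of_ne (x := u),
            swap_apply_of_ne_of_ne] <;> rintro rfl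
          exacts [c1 rfl, c2 rfl, c1 ex, c2 ey]
      obtain ⟨hf₃, h3⟩ := good_translate hf₂ h2 (h1 hh)
      refine three_cycle_of_share hf₂ h2 h3 hxy k3 (x := y') (y := z) ?_ ?_ ?_
      · simp only [Function.comp_apply, Perm.mul_apply]
        rw [swap_apply_of_ne_of_ne hx'.symm hxy', swap_apply_of_ne_of_ne hx'y.symm hy'.symm,
          swap_apply_left, swap_apply_right, k3]
      · simp only [Function.comp_apply, Perm.mul_apply]
        rw [swap_apply_right, swap_apply_of_ne_of_ne hx' hx'y, swap_apply_of_ne_of_ne hz hzy,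
          swap_apply_of_ne_of_ne hzx hzy', ez]
      · intro e
        rcases eq_or_eq_of_card_two hf₂ hz ez (e.trans ez) with h | h
        exacts [hx'y' h.symm, hzy h.symm]
  · obtain ⟨j, -, hj⟩ := Finset.exists_mem_notMem_of_card_lt_card (s := {f₂ x, f₂ x'})
      (t := Finset.univ) (lt_of_le_of_lt Finset.card_le_two (by
        rw [Finset.card_univ, ← Nat.card_eq_fintype_card]; omega))
    simp only [Finset.mem_insert, Finset.mem_singleton, not_or] at hj
    obtain ⟨s, t, hst, hs, ht⟩ := exists_two_in_fibre hf₂ le_rfl j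
    obtain ⟨i, -, hi⟩ := Finset.exists_mem_notMem_of_card_lt_card (s := {f₁ x, f₁ y, f₁ s, f₁ t})
      (t := Finset.univ) (lt_of_le_of_lt Finset.card_le_four (by
        rw [Finset.card_univ, ← Nat.card_eq_fintype_card]; omega))
    simp only [Finset.mem_insert, Finset.mem_singleton, not_or] at hi
    obtain ⟨c, c', hcc, hc, hc'⟩ := exists_two_in_fibre hf₁ le_rfl i
    have hu := h2 (swap_mul_swap_mem hxy hst k3 (hs.trans ht.symm))
    have hv := h1 (swap_mul_swap_mem hx'.symm hcc ex.symm (hc.trans hc'.symm))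
    have hxs : x ≠ s := by rintro rfl; exact hj.1 hs.symm
    have hxt : x ≠ t := by rintro rfl; exact hj.1 ht.symm
    have hxc : x ≠ c := by rintro rfl; exact hi.1 hc.symm
    have hxc' : x ≠ c' := by rintro rfl; exact hi.1 hc'.symm
    refine ⟨_, G.mul_mem (G.mul_mem (G.mul_mem hu hv) (G.inv_mem hu)) (G.inv_mem hv),
      SymIndex.isThreeCycle_commutator (x := x) ?_ ?_ fun w hw => ?_⟩
    · rw [Perm.mul_apply, swap_apply_of_ne_of_ne hxs hxt, swap_apply_left]; exact hxy.symm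
    · rw [Perm.mul_apply, swap_apply_of_ne_of_ne hxc hxc', swap_apply_left]; exact hx'
    · by_cases h : w = y ∨ w = s ∨ w = t
      · right
        have w1 : w ≠ x' := by
          rcases h with rfl | rfl | rfl
          · exact hx'y.symm
          · rintro rfl; exact hj.2 hs.symm
          · rintro rfl; exact hj.2 ht.symm
        have w2 : f₁ w ≠ i := by
          rcases h with rfl | rfl | rfl
          exacts [Ne.symm hi.2.1, Ne.symm hi.2.2.1, Ne.symm hi.2.2.2]
        rw [Perm.mul_apply, swap_apply_of_ne_of_ne (x := w), swap_apply_of_ne_of_ne hw w1] <;>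
          rintro rfl
        exacts [w2 hc, w2 hc']
      · left
        push Not at h
        rw [Perm.mul_apply, swap_apply_of_ne_of_ne h.2.1 h.2.2, swap_apply_of_ne_of_ne hw h.1]

theorem alt_le [Finite ι] {a : ℕ} {f : Ω → ι} (hf : ∀ i, Nat.card {x // f x = i} = a)
    (ha : 2 ≤ a) (hb : 2 ≤ Nat.card ι) (h8 : Nat.card Ω ≠ 8) (G : Subgroup (Perm Ω))
    (hG : W f ⊓ alternatingGroup Ω ≤ G) (hGA : G ≤ alternatingGroup Ω) (hne : ¬ G ≤ W f) :
    alternatingGroup Ω ≤ G := by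
  have hcard := card_eq hf
  have h0 : ∀ x y, ∃ g ∈ G, g x = y := fun x y => by
    obtain ⟨w, hw, e⟩ := even_transitive hf ha hb x y
    exact ⟨w, hG hw, e⟩
  have h1 : ∀ x y z, f y = f x → f z = f x → y ≠ x → z ≠ x → ∃ g ∈ G, g x = x ∧ g y = z :=
    fun x y z k1 k2 k3 k4 => by
      obtain ⟨w, hw, e⟩ := even_h1 hf ha hb x y z k1 k2 k3 k4
      exact ⟨w, hG hw, e⟩
  obtain ⟨g, hg, hgW⟩ := SetLike.not_le_iff_exists.mp hne
  by_cases hab : 3 ≤ a ∨ 3 ≤ Nat.card ι
  · have hp := primitive_of hf hb G h0 h1 (fun x y z k1 k2 => by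
      obtain ⟨w, hw, e⟩ := even_h2 hf ha hab x y z k1 k2
      exact ⟨w, hG hw, e⟩) hne
    suffices h : ∃ c ∈ G, IsThreeCycle c by
      obtain ⟨c, hc, h3⟩ := h
      exact alternatingGroup_le_of_isPreprimitive_of_isThreeCycle_mem hp h3 hc
    by_cases ha3 : 3 ≤ a
    · have : Nonempty Ω := (Nat.card_pos_iff.mp (by rw [hcard]; positivity)).1
      obtain ⟨x⟩ := this
      obtain ⟨u, v, k1, k2, k3, k4, k5⟩ := exists_two_others_in_fibre hf ha3 x
      exact ⟨_, hG (swap_mul_swap_mem k2.symm k3.symm k4.symm k5.symm),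
        isThreeCycle_swap_mul_swap_same k2.symm k3.symm k1⟩
    obtain rfl : a = 2 := by omega
    obtain ⟨hf', hG'⟩ := good_translate hf hG hg
    have : ∃ x y, ¬ (f x = f y ↔ f (g x) = f (g y)) := by
      by_contra hcon
      push Not at hcon
      exact hgW hcon
    obtain ⟨x, y, h⟩ := this
    by_cases hxy : f x = f y
    · exact three_cycle_of_pairs hf' hf (by omega) (by omega) hG' hG hxy
        (fun e => h ⟨fun _ => e, fun _ => hxy⟩)
    · refine three_cycle_of_pairs hf hf' (by omega) (by omega) hG hG' (x := x) (y := y) ?_ hxy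
      by_contra e
      exact h ⟨fun e' => absurd e' hxy, fun e' => absurd e' e⟩
  · have h4 : Nat.card Ω = 4 := by
      rw [hcard, show a = 2 by omega, show Nat.card ι = 2 by omega]
    have key : ∀ x, ∃ c ∈ G, IsThreeCycle c ∧ ∀ y, y ∈ c.support ↔ y ≠ x := by
      intro x
      obtain ⟨w, hw, e⟩ := even_transitive hf ha hb (g x) x
      have hc1 : w * g ≠ 1 := fun e' => hgW (by
        rw [← eq_inv_iff_mul_eq_one] at e'
        simpa [e'] using hw.1)
      have hsub : (w * g).support ⊆ Finset.univ.erase x := fun y hy =>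
        Finset.mem_erase.mpr ⟨by rintro rfl; exact mem_support.mp hy e, Finset.mem_univ _⟩
      have hc3 : (Finset.univ.erase x).card = 3 := by
        rw [Finset.card_erase_of_mem (Finset.mem_univ _), Finset.card_univ,
          ← Nat.card_eq_fintype_card, h4]
      have h5 := Finset.card_le_card hsub
      have h6 := two_le_card_support_of_ne_one hc1
      have h7 : (w * g).support.card ≠ 2 := fun e' => by
        have h8 := (card_support_eq_two.mp e').sign_eq
        rw [mem_alternatingGroup.mp (hGA (G.mul_mem (hG hw) hg))] at h8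
        exact absurd h8 (by decide)
      refine ⟨w * g, G.mul_mem (hG hw) hg, card_support_eq_three_iff.mp (by omega), fun y => ?_⟩
      rw [Finset.eq_of_subset_of_card_le hsub (by omega)]
      simp
    have hp := primitive_of hf hb G h0 h1 (fun x y z k1 k2 => by
      obtain ⟨c, hc, h3, hs⟩ := key x
      obtain ⟨i, hi⟩ := h3.isCycle.exists_pow_eq (mem_support.mp ((hs y).mpr fun e => k1 (e ▸ rfl)))
        (mem_support.mp ((hs z).mpr fun e => k2 (e ▸ rfl)))
      exact ⟨c ^ i, G.pow_mem hc i, pow_apply_eq_self_of_apply_eq_self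
        (notMem_support.mp fun h => (hs x).mp h rfl) i, hi⟩) hne
    have : Nonempty Ω := (Nat.card_pos_iff.mp (by omega)).1
    obtain ⟨c, hc, h3, -⟩ := key (Classical.arbitrary Ω)
    exact alternatingGroup_le_of_isPreprimitive_of_isThreeCycle_mem hp h3 hc

theorem isCoatom_W_alt [Finite ι] {a : ℕ} {f : Ω → ι} (hf : ∀ i, Nat.card {x // f x = i} = a)
    (ha : 2 ≤ a) (hb : 2 ≤ Nat.card ι) (h8 : Nat.card Ω ≠ 8) :
    IsCoatom ((W f ⊓ alternatingGroup Ω).subgroupOf (alternatingGroup Ω)) := by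
  constructor
  · obtain ⟨i, j, hij⟩ := (Finite.one_lt_card_iff_nontrivial.mp hb).exists_pair_ne
    obtain ⟨x, x', hx, h1, h2⟩ := exists_two_in_fibre hf ha i
    obtain ⟨y, y', hy, h3, h4⟩ := exists_two_in_fibre hf ha j
    have hne : ∀ u v, f u = i → f v = j → u ≠ v := by
      rintro u v k1 k2 rfl; exact hij (k1.symm.trans k2)
    rw [Ne, Subgroup.subgroupOf_eq_top]
    intro h
    have := ((h (mul_mem_alternatingGroup_of_isSwap ⟨_, _, hne x' y h2 h3, rfl⟩
      ⟨_, _, hy, rfl⟩)).1 x x').mp (h1.trans h2.symm)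
    rw [Perm.mul_apply, Perm.mul_apply, swap_apply_of_ne_of_ne (hne x y h1 h3) (hne x y' h1 h4),
      swap_apply_of_ne_of_ne (hne x' y h2 h3) (hne x' y' h2 h4), swap_apply_left,
      swap_apply_of_ne_of_ne hx (hne x y h1 h3), h1, h3] at this
    exact hij this
  · intro K hK
    have h1 := alt_le hf ha hb h8 (K.map (alternatingGroup Ω).subtype)
      (fun w hw => ⟨⟨w, hw.2⟩, hK.le hw, rfl⟩) (Subgroup.map_subtype_le _)
      (fun h => hK.not_ge fun k hk => ⟨h ⟨k, hk, rfl⟩, k.2⟩)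
    rw [eq_top_iff]
    intro k _
    obtain ⟨k', hk', e⟩ := h1 k.2
    rwa [← Subtype.ext e]

end Cfsg.Agent.H3.PartStab
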