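import Mathlib

/-! The point stabiliser in a symmetric group as a symmetric group on the remaining points. -/

set_option autoImplicit false

namespace Cfsg.Agent.H3.PointStab

open MulAction

variable {α : Type*}

theorem ne_iff (a : α) (g : stabilizer (Equiv.Perm α) a) (x : α) :
    (g : Equiv.Perm α) x ≠ a ↔ x ≠ a := by
  have h : (g : Equiv.Perm α) a = a := g.2
  rw [not_iff_not]
  exact ⟨fun e => (g : Equiv.Perm α).injective (e.trans h.symm), fun e => e ▸ h⟩

/-- Restriction of a point stabiliser to the remaining points. -/
def res (a : α) : stabilizer (Equiv.Perm α) a →* Equiv.Perm {x // x ≠ a} :=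
  MonoidHom.mk' (fun g => (g : Equiv.Perm α).subtypePerm (ne_iff a g)) (fun _ _ => rfl)

@[simp] theorem res_apply (a : α) (g : stabilizer (Equiv.Perm α) a) (x : {x // x ≠ a}) :
    (res a g x : α) = (g : Equiv.Perm α) x := rfl

theorem res_bijective (a : α) : Function.Bijective (res a) := by
  classical
  constructor
  · intro g h e
    ext x
    by_cases hx : x = a
    · have h1 : (g : Equiv.Perm α) a = a := g.2
      have h2 : (h : Equiv.Perm α) a = a := h.2
      rw [hx, h1, h2]
    · exact congrArg (fun f : Equiv.Perm {x // x ≠ a} => (f ⟨x, hx⟩ : α)) e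
  · intro τ
    refine ⟨⟨Equiv.Perm.ofSubtype τ, ?_⟩, ?_⟩
    · exact Equiv.Perm.ofSubtype_apply_of_not_mem τ (by simp)
    · exact Equiv.Perm.subtypePerm_ofSubtype τ

/-- The point stabiliser is the symmetric group on the remaining points. -/
noncomputable def resEquiv (a : α) : stabilizer (Equiv.Perm α) a ≃* Equiv.Perm {x // x ≠ a} :=
  MulEquiv.ofBijective (res a) (res_bijective a)

theorem card_ne [Finite α] (a : α) : Nat.card {x // x ≠ a} = Nat.card α - 1 := by
  classical
  have := Fintype.ofFinite α
  simp [Nat.card_eq_fintype_card]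

end Cfsg.Agent.H3.PointStab
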