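import Mathlib
import Cfsg.Agent.H3.SymIndex
import Cfsg.Agent.H3.PointStab

/-! Subgroups of index six in the symmetric group of degree six. -/

set_option autoImplicit false

namespace Cfsg.Agent.H3.SymSix

open MulAction Equiv Equiv.Perm
open scoped Pointwise

variable {α : Type*} [Fintype α] [DecidableEq α]

theorem exists_aut (h5 : 5 ≤ Nat.card α) (H : Subgroup (Perm α)) (hH : H.index = Nat.card α) :
    ∃ (φ : Perm α ≃* Perm α) (a : α), ∀ g, g ∈ H ↔ φ g a = a := by
  have hinj := SymIndex.coset_action_injective h5 H (fun h => by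
    have := SymIndex.index_le_two_of_alt_le H h
    omega)
  have hbij : Function.Bijective (MulAction.toPermHom (Perm α) (Perm α ⧸ H)) :=
    hinj.bijective_of_nat_card_le (by rw [Nat.card_perm, Nat.card_perm, ← hH]; rfl)
  obtain ⟨e⟩ : Nonempty ((Perm α ⧸ H) ≃ α) := Finite.card_eq.mp hH
  refine ⟨(MulEquiv.ofBijective _ hbij).trans e.permCongrHom, e ((1 : Perm α) : Perm α ⧸ H),
    fun g => ?_⟩
  conv_lhs => rw [← stabilizer_quotient H, mem_stabilizer_iff]
  simp

theorem nonempty_mulEquiv (h6 : Nat.card α = 6) (H : Subgroup (Perm α)) (hH : H.index = 6) :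
    Nonempty (H ≃* Perm (Fin 5)) := by
  obtain ⟨φ, a, h⟩ := exists_aut (by omega) H (hH.trans h6.symm)
  have h1 : H.map φ.toMonoidHom = stabilizer (Perm α) a := by
    ext g
    constructor
    · rintro ⟨k, hk, rfl⟩; exact (h k).mp hk
    · intro hg
      exact ⟨φ.symm g, (h _).mpr (by simpa using hg), by simp⟩
  obtain ⟨e⟩ : Nonempty ({x // x ≠ a} ≃ Fin 5) :=
    Finite.card_eq.mp (by rw [PointStab.card_ne, h6]; simp)
  exact ⟨(φ.subgroupMap H).trans ((MulEquiv.subgroupCongr h1).trans
    ((PointStab.resEquiv a).trans e.permCongrHom))⟩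

theorem exists_transitive (h6 : Nat.card α = 6) :
    ∃ H : Subgroup (Perm α), H.index = 6 ∧ IsPretransitive H α := by
  have : Fact (Nat.Prime 5) := ⟨by norm_num⟩
  obtain ⟨P⟩ : Nonempty (Sylow 5 (Perm (Fin 5))) := inferInstance
  have hc : Nat.card (Perm (Fin 5)) = 120 := by rw [Nat.card_perm]; simp [Nat.factorial]
  have hP : Nat.card P = 5 := by
    rw [P.card_eq_multiplicity, hc]
    have : (120 : ℕ).factorization 5 = 1 := by
      rw [show (120 : ℕ) = 5 * 24 by norm_num, Nat.factorization_mul (by norm_num) (by norm_num)]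
      simp only [Finsupp.coe_add, Pi.add_apply]
      rw [Nat.Prime.factorization_self (by norm_num),
        Nat.factorization_eq_zero_of_not_dvd (by norm_num)]
    rw [this]; rfl
  have hidx : (P : Subgroup (Perm (Fin 5))).index = 24 := by
    have := (P : Subgroup (Perm (Fin 5))).index_mul_card
    rw [hP, hc] at this
    omega
  set N := Subgroup.normalizer ((P : Subgroup (Perm (Fin 5))) : Set (Perm (Fin 5))) with hN
  have h1 : N.index ∣ 24 := hidx ▸ Subgroup.index_dvd_of_le Subgroup.le_normalizer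
  have h2 := card_sylow_modEq_one 5 (Perm (Fin 5))
  rw [P.card_eq_index_normalizer] at h2
  change N.index ≡ 1 [MOD 5] at h2
  have h3 : N.index ≠ 1 := by
    intro e
    rw [Subgroup.index_eq_one, hN, Subgroup.normalizer_eq_top_iff] at e
    have := SymIndex.index_le_two_of_alt_le _ (alternatingGroup_le_of_normal (α := Fin 5)
      (N := P) (by simp) (Finite.one_lt_card_iff_nontrivial.mp (by omega)))
    omega
  have h4 : N.index = 6 := by
    have := Nat.le_of_dvd (by norm_num) h1
    unfold Nat.ModEq at h2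
    generalize N.index = k at *
    interval_cases k <;> omega
  have hinj := SymIndex.coset_action_injective (α := Fin 5) (by simp) N (fun h => by
    have := SymIndex.index_le_two_of_alt_le N h
    omega)
  obtain ⟨e⟩ : Nonempty ((Perm (Fin 5) ⧸ N) ≃ α) := Finite.card_eq.mp (h4.trans h6.symm)
  let f : Perm (Fin 5) →* Perm α :=
    e.permCongrHom.toMonoidHom.comp (MulAction.toPermHom (Perm (Fin 5)) (Perm (Fin 5) ⧸ N))
  have hf : Function.Injective f := e.permCongrHom.injective.comp hinj
  refine ⟨f.range, ?_, ⟨fun x y => ?_⟩⟩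
  · have := f.range.index_mul_card
    rw [← Nat.card_congr (MonoidHom.ofInjective hf).toEquiv, hc, Nat.card_perm, h6] at this
    simp [Nat.factorial] at this
    omega
  · obtain ⟨g, hg⟩ := exists_smul_eq (Perm (Fin 5)) (e.symm x) (e.symm y)
    refine ⟨⟨f g, g, rfl⟩, ?_⟩
    change e (g • e.symm x) = y
    rw [hg]; simp

theorem not_isSwap_of_transitive (h6 : Nat.card α = 6) (H : Subgroup (Perm α)) (hH : H.index = 6)
    (ht : IsPretransitive H α) {g : Perm α} (hg : g ∈ H) : ¬ g.IsSwap := by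
  intro hs
  have hp : IsPreprimitive H α := by
    refine ⟨fun {B} hB => ?_⟩
    by_contra hB'
    have hBn : B.Nontrivial := Set.not_subsingleton_iff.mp fun h => hB' (Or.inl h)
    have h1 := (Set.one_lt_ncard_iff_nontrivial (s := B)).mpr hBn
    have h2 : B.ncard * 2 ≤ Nat.card α := by
      by_contra h
      exact hB' (Or.inr (hB.eq_univ_of_card_lt (by omega)))
    have h4 := hB.ncard_block_mul_ncard_orbit_eq hBn.nonempty
    have h5 : (stabilizer (Perm α) B).index ∣ ((stabilizer H B).map H.subtype).index :=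
      Subgroup.index_dvd_of_le (by rintro _ ⟨g, hg, rfl⟩; exact hg)
    rw [Subgroup.index_map_subtype, index_stabilizer H, hH, SymIndex.index_stabilizer_set,
      h6] at h5
    rw [h6] at h4
    rcases (by omega : B.ncard = 2 ∨ B.ncard = 3) with e | e
    · rw [e] at h4 h5
      rw [show (orbit H B).ncard = 3 by omega] at h5
      revert h5; decide
    · rw [e] at h4 h5
      rw [show (orbit H B).ncard = 2 by omega] at h5
      revert h5; decide
  rw [subgroup_eq_top_of_isPreprimitive_of_isSwap_mem hp g hs hg, Subgroup.index_top] at hH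
  omega

theorem cycleType_eq (h6 : Nat.card α = 6) {g : Perm α} (h2 : g ^ 2 = 1)
    (hs : g ∉ alternatingGroup α) (hg : ¬ g.IsSwap) : g.cycleType = Multiset.replicate 3 2 := by
  have h1 := cycleType_of_pow_prime_eq_one h2
  have h3 := g.sum_cycleType_le
  have h4 := sign_of_cycleType g
  rw [mem_alternatingGroup] at hs
  rw [← card_support_eq_two, ← sum_cycleType] at hg
  generalize g.cycleType.card = k at *
  rw [h1] at h3 hg h4 ⊢
  rw [← Nat.card_eq_fintype_card, h6] at h3
  simp only [Multiset.sum_replicate, smul_eq_mul] at h3 hg h4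
  have : k ≤ 3 := by omega
  interval_cases k
  · exact absurd h4 hs
  · omega
  · exact absurd h4 hs
  · rfl

theorem map_mem_alt_iff (φ : Perm α ≃* Perm α) (g : Perm α) :
    φ g ∈ alternatingGroup α ↔ g ∈ alternatingGroup α := by
  have := Subgroup.characteristic_iff_comap_eq.mp
    (inferInstance : (alternatingGroup α).Characteristic) φ
  conv_rhs => rw [← this]
  rfl

theorem swap_not_mem_alt {g : Perm α} (hg : g.IsSwap) : g ∉ alternatingGroup α := by
  rw [mem_alternatingGroup, hg.sign_eq]; decide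

theorem isSwap_sq {g : Perm α} (hg : g.IsSwap) : g ^ 2 = 1 := by
  rw [← hg.orderOf, pow_orderOf_eq_one]

theorem exists_fixed_of_isSwap (h6 : Nat.card α = 6) {g : Perm α} (hg : g.IsSwap) :
    ∃ b, g b = b := by
  obtain ⟨b, -, hb⟩ := Finset.exists_mem_notMem_of_card_lt_card (s := g.support)
    (t := Finset.univ) (by
      rw [card_support_eq_two.mpr hg, Finset.card_univ, ← Nat.card_eq_fintype_card]; omega)
  exact ⟨b, notMem_support.mp hb⟩

theorem isSwap_of_isConj {g h : Perm α} (hg : g.IsSwap) (hc : IsConj g h) : h.IsSwap := by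
  obtain ⟨c, rfl⟩ := isConj_iff.mp hc
  rw [← card_support_eq_two, card_support_conj, card_support_eq_two]; exact hg

/-- The outer automorphism: it sends every transitive subgroup of index six to a point
stabiliser. -/
theorem exists_outer (h6 : Nat.card α = 6) : ∃ φ : Perm α ≃* Perm α,
    (∀ a : α, IsPretransitive ((stabilizer (Perm α) a).comap φ.toMonoidHom) α) ∧
    ∀ H : Subgroup (Perm α), H.index = 6 → IsPretransitive H α →
      ∃ a : α, H = (stabilizer (Perm α) a).comap φ.toMonoidHom := by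
  obtain ⟨H₀, h0, ht0⟩ := exists_transitive h6
  obtain ⟨φ, a₀, hφ⟩ := exists_aut (by omega) H₀ (h0.trans h6.symm)
  refine ⟨φ, fun a => ⟨fun x y => ?_⟩, fun H hH ht => ?_⟩
  · obtain ⟨k, hk⟩ := φ.surjective (swap a₀ a)
    obtain ⟨g, hg⟩ := exists_smul_eq H₀ (k⁻¹ x) (k⁻¹ y)
    refine ⟨⟨k * g * k⁻¹, ?_⟩, ?_⟩
    · change φ (k * g * k⁻¹) a = a
      rw [map_mul, map_mul, map_inv, hk]
      simp [(hφ g).mp g.2]
    · change k ((g : Perm α) (k⁻¹ x)) = y
      rw [show (g : Perm α) (k⁻¹ x) = k⁻¹ y from hg]; simp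
  have hidx : (H.map φ.toMonoidHom).index = 6 := by
    rw [← hH]; exact Subgroup.index_map_equiv H φ
  suffices hnt : ¬ IsPretransitive (H.map φ.toMonoidHom) α by
    obtain ⟨a, ha⟩ := SymIndex.eq_stabilizer_of_not_transitive _ (hidx.trans h6.symm) hnt
    exact ⟨a, by rw [← ha, Subgroup.comap_map_eq_self_of_injective φ.injective]⟩
  intro ht'
  obtain ⟨ψ, a, hψ⟩ := exists_aut (by omega) H (hH.trans h6.symm)
  obtain ⟨b, c, hb, hc, hbc⟩ : ∃ b c : α, b ≠ a ∧ c ≠ a ∧ b ≠ c := by
    have : 1 < Nat.card {x // x ≠ a} := by rw [PointStab.card_ne]; omega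
    obtain ⟨b, c, hbc⟩ := (Finite.one_lt_card_iff_nontrivial.mp this).exists_pair_ne
    exact ⟨b, c, b.2, c.2, Subtype.coe_ne_coe.mpr hbc⟩
  have hs : (swap b c).IsSwap := ⟨b, c, hbc, rfl⟩
  obtain ⟨t, ht1⟩ := ψ.surjective (swap b c)
  have htH : t ∈ H := (hψ t).mpr (by rw [ht1, swap_apply_of_ne_of_ne hb.symm hc.symm])
  have ht2 : t ^ 2 = 1 := ψ.injective (by rw [map_pow, ht1, isSwap_sq hs, map_one])
  have ht3 : t ∉ alternatingGroup α := by
    rw [← map_mem_alt_iff ψ, ht1]; exact swap_not_mem_alt hs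
  have h1 := cycleType_eq h6 (g := φ t) (by rw [← map_pow, ht2, map_one])
    (by rwa [map_mem_alt_iff]) (not_isSwap_of_transitive h6 _ hidx ht' ⟨t, htH, rfl⟩)
  have h2 := cycleType_eq h6 (g := φ (swap b c)) (by rw [← map_pow, isSwap_sq hs, map_one])
    (by rw [map_mem_alt_iff]; exact swap_not_mem_alt hs) (by
      intro h
      obtain ⟨d, hd⟩ := exists_fixed_of_isSwap h6 h
      obtain ⟨k, hk⟩ := φ.surjective (swap a₀ d)
      refine not_isSwap_of_transitive h6 H₀ h0 ht0 (g := k * swap b c * k⁻¹) ((hφ _).mpr ?_)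
        (isSwap_of_isConj hs (isConj_iff.mpr ⟨k, rfl⟩))
      rw [map_mul, map_mul, map_inv, hk]
      simp [hd])
  have h3 : IsConj (φ (swap b c)) (φ t) := isConj_iff_cycleType_eq.mpr (h2.trans h1.symm)
  have h4 := φ.symm.toMonoidHom.map_isConj h3
  simp only [MulEquiv.toMonoidHom_eq_coe, MonoidHom.coe_coe, MulEquiv.symm_apply_apply] at h4
  exact not_isSwap_of_transitive h6 H hH ht htH (isSwap_of_isConj hs h4)

theorem stabilizer_not_transitive (h2 : 2 ≤ Nat.card α) (a : α) :
    ¬ IsPretransitive (stabilizer (Perm α) a) α := by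
  intro h
  have : Nontrivial α := Finite.one_lt_card_iff_nontrivial.mp h2
  obtain ⟨b, hb⟩ := exists_ne a
  obtain ⟨g, hg⟩ := exists_smul_eq (stabilizer (Perm α) a) a b
  exact hb (hg.symm.trans g.2)

theorem stabilizer_injective (h3 : 3 ≤ Nat.card α) :
    Function.Injective (fun a : α => stabilizer (Perm α) a) := by
  intro a b e
  by_contra hab
  obtain ⟨c, hca, hcb⟩ : ∃ c, c ≠ a ∧ c ≠ b := by
    obtain ⟨c, -, hc⟩ := Finset.exists_mem_notMem_of_card_lt_card (s := {a, b})
      (t := Finset.univ) (lt_of_le_of_lt Finset.card_le_two (by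
        rw [Finset.card_univ, ← Nat.card_eq_fintype_card]; omega))
    exact ⟨c, by simpa using hc⟩
  have h1 : swap b c ∈ stabilizer (Perm α) a := swap_apply_of_ne_of_ne hab hca.symm
  simp only at e
  rw [e] at h1
  exact hcb (by simpa using h1)

end Cfsg.Agent.H3.SymSix
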